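import Mathlib
import Groth.Prelude.Def_GSzCSA
import Groth.Agent.Lib.Lead.RedN3
import Groth.Agent.Lib.Helper6.H1Units.Main
import Groth.Agent.Lib.Helper6.PGLDescent
import Groth.Agent.Lib.Helper6.RedNorm2

/-!
# `H¹(G, SL₁(K ⊗ A))` in terms of reduced norms (finite level)
-/

set_option autoImplicit false
set_option linter.unusedSectionVars false
set_option linter.unusedVariables false
set_option linter.unusedSimpArgs false
set_option linter.style.haveILetI false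
set_option maxHeartbeats 400000

namespace Groth.Agent.Lib.Helper6.SL1H1

open scoped TensorProduct
open Groth.Agent.Lead.RedN Module

attribute [local instance] CSAGal.tensorAction GpH1.unitsAction

universe u v w

section basic

variable {k : Type u} [Field k] {K : Type v} [Field K] [Algebra k K]
variable {A : Type w} [Ring A] [Algebra k A]

theorem units_smul_val' (σ : K ≃ₐ[k] K) (u : (K ⊗[k] A)ˣ) :
    ((σ • u : (K ⊗[k] A)ˣ) : K ⊗[k] A) = σ • (u : K ⊗[k] A) := rfl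

theorem smul_algebraMap (σ : K ≃ₐ[k] K) (c : K) :
    σ • (algebraMap K (K ⊗[k] A) c) = algebraMap K (K ⊗[k] A) (σ c) := by
  rw [Algebra.TensorProduct.algebraMap_apply, Algebra.TensorProduct.algebraMap_apply,
    Groth.Agent.Helper6.PGLDescent.smul_tmul_eq]
  rfl

theorem smul_smul_eq (σ : K ≃ₐ[k] K) (c : K) (y : K ⊗[k] A) :
    σ • (c • y) = σ c • (σ • y) := by
  rw [Algebra.smul_def, Algebra.smul_def, smul_mul', smul_algebraMap]

/-- the `σ`-twist of a representation of `K ⊗ A`. -/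
noncomputable def twist {n : ℕ} (σ : K ≃ₐ[k] K)
    (ψ : K ⊗[k] A →ₐ[K] Matrix (Fin n) (Fin n) K) :
    K ⊗[k] A →ₐ[K] Matrix (Fin n) (Fin n) K :=
  AlgHom.mk' (((σ.symm : K ≃ₐ[k] K) : K →+* K).mapMatrix.comp
      ((ψ : K ⊗[k] A →+* Matrix (Fin n) (Fin n) K).comp
        (MulSemiringAction.toRingHom (K ≃ₐ[k] K) (K ⊗[k] A) σ)))
    (fun c y => by
      show ((ψ (σ • (c • y))).map (σ.symm)) = c • ((ψ (σ • y)).map σ.symm)
      rw [smul_smul_eq, map_smul]
      ext i j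
      simp [Matrix.map_apply, Matrix.smul_apply])

theorem twist_apply {n : ℕ} (σ : K ≃ₐ[k] K)
    (ψ : K ⊗[k] A →ₐ[K] Matrix (Fin n) (Fin n) K) (y : K ⊗[k] A) :
    twist σ ψ y = (ψ (σ • y)).map σ.symm := rfl

theorem det_map_symm {n : ℕ} (σ : K ≃ₐ[k] K) (M : Matrix (Fin n) (Fin n) K) :
    (M.map σ.symm).det = σ.symm M.det :=
  (AlgEquiv.map_det σ.symm M).symm

end basic

section csa

variable {k : Type u} [Field k] {K : Type v} [Field K] [Algebra k K]
variable {A : Type w} [Ring A] [Algebra k A] [Algebra.IsCentral k A] [IsSimpleRing A]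
  [FiniteDimensional k A]

theorem det_equivariant {n : ℕ} (hn : n ≠ 0)
    (ψ : K ⊗[k] A ≃ₐ[K] Matrix (Fin n) (Fin n) K) (σ : K ≃ₐ[k] K) (y : K ⊗[k] A) :
    (ψ (σ • y)).det = σ (ψ y).det := by
  haveI : Nonempty (Fin n) := ⟨⟨0, Nat.pos_of_ne_zero hn⟩⟩
  haveI := Groth.Agent.Helper8.isCentral_baseChange k K A
  haveI := Groth.Agent.Helper8.isSimpleRing_baseChange k K A
  have h := det_eq (k := K) (A := K ⊗[k] A) (L := K) ψ.toAlgHom (twist σ ψ.toAlgHom) y
  rw [twist_apply, det_map_symm] at h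
  have h' : (ψ y).det = σ.symm (ψ (σ • y)).det := h
  rw [h', AlgEquiv.apply_symm_apply]

theorem redNorm_eq_det {n : ℕ} (hn : n ≠ 0)
    (ψ : K ⊗[k] A ≃ₐ[K] Matrix (Fin n) (Fin n) K)
    (NK : (K ⊗[k] A) →* K) (hNK : CSAGal.IsRedNorm K (K ⊗[k] A) NK) (y : K ⊗[k] A) :
    NK y = (ψ y).det := by
  obtain ⟨K₂, _, _, _, m, φ₂, h₂⟩ := hNK
  haveI := Groth.Agent.Helper8.isCentral_baseChange k K A
  haveI := Groth.Agent.Helper8.isSimpleRing_baseChange k K A
  have hm : m = n := by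
    have h1 : finrank K (K ⊗[k] A) = m * m := finrank_of_splitting φ₂
    have h2 : finrank K (K ⊗[k] A) = n * n := by
      rw [ψ.toLinearEquiv.finrank_eq, Module.finrank_matrix]; simp
    exact Nat.mul_self_inj.mp (h1.symm.trans h2)
  subst hm
  haveI : Nonempty (Fin m) := ⟨⟨0, Nat.pos_of_ne_zero hn⟩⟩
  have key := det_eq_cross (k := K) (A := K ⊗[k] A) (L₁ := K) (L₂ := K₂) ψ.toAlgHom (rhoOf φ₂) y
    (ψ y).det rfl
  apply (algebraMap K K₂).injective
  rw [h₂ y]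
  exact key

theorem det_one_tmul {n : ℕ} (hn : n ≠ 0)
    (ψ : K ⊗[k] A ≃ₐ[K] Matrix (Fin n) (Fin n) K)
    (N : A →* k) (hN : CSAGal.IsRedNorm k A N) (a : A) :
    (ψ (1 ⊗ₜ[k] a)).det = algebraMap k K (N a) := by
  obtain ⟨K₁, _, _, _, n₁, φ₁, h₁⟩ := hN
  have hA1 : finrank k A = n₁ * n₁ := finrank_of_splitting φ₁
  have hA2 : finrank k A = n * n := finrank_of_splitting ψ
  have hsize : n₁ = n := Nat.mul_self_inj.mp (hA1.symm.trans hA2)
  subst hsize
  haveI : Nonempty (Fin n₁) := ⟨⟨0, Nat.pos_of_ne_zero hn⟩⟩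
  exact det_eq_cross (rhoOf φ₁) (rhoOf ψ) a (N a) (by rw [rhoOf_apply]; exact (h₁ a).symm)

end csa

end Groth.Agent.Lib.Helper6.SL1H1
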