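import Groth.Agent.Lib.Helper6.SL1H1.SH1

/-!
# `H¹(G, SL₁(K ⊗ A))` in terms of reduced norms (finite level): the main statement
-/

set_option autoImplicit false
set_option linter.unusedSectionVars false
set_option linter.unusedVariables false
set_option linter.unusedSimpArgs false
set_option linter.style.haveILetI false
set_option maxHeartbeats 400000

namespace Groth.Agent.Lib.Helper6.SL1H1

open scoped TensorProduct
open Groth.Agent.Lead.RedN Module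

attribute [local instance] CSAGal.tensorAction GpH1.unitsAction

universe u v w

theorem formal (k : Type u) [Field k] (K : Type v) [Field K] [Algebra k K]
    [FiniteDimensional k K] [IsGalois k K]
    (A : Type w) [Ring A] [Algebra k A] [FiniteDimensional k A]
    (N : A →* k) (NK : (K ⊗[k] A) →* K)
    (hequiv : ∀ (σ : K ≃ₐ[k] K) (y : K ⊗[k] A), NK (σ • y) = σ (NK y))
    (hone : ∀ a : A, NK ((1 : K) ⊗ₜ[k] a) = algebraMap k K (N a)) :
    (∀ a : GpH1.OneCocycle (K ≃ₐ[k] K) (K ⊗[k] A)ˣ, (∀ σ, NK (a σ : K ⊗[k] A) = 1) →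
        ∃ (c : kˣ) (b : (K ⊗[k] A)ˣ), NK (b : K ⊗[k] A) = algebraMap k K (c : k) ∧
          ∀ σ : K ≃ₐ[k] K, a σ = b⁻¹ * σ • b) ∧
    (∀ (c c' : kˣ) (b b' : (K ⊗[k] A)ˣ),
        NK (b : K ⊗[k] A) = algebraMap k K (c : k) → NK (b' : K ⊗[k] A) = algebraMap k K (c' : k) →
        ((∃ s : (K ⊗[k] A)ˣ, NK (s : K ⊗[k] A) = 1 ∧
            ∀ σ : K ≃ₐ[k] K, b'⁻¹ * σ • b' = s⁻¹ * (b⁻¹ * σ • b) * σ • s) ↔
          ∃ x : Aˣ, (c' : k) = N (x : A) * (c : k))) := by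
  have hunit : ∀ u : (K ⊗[k] A)ˣ, NK (u : K ⊗[k] A) ≠ 0 := by
    intro u h0
    have := congrArg NK u.mul_inv
    rw [map_mul, map_one, h0, zero_mul] at this
    exact zero_ne_one this
  have hinv : ∀ u : (K ⊗[k] A)ˣ,
      NK ((u⁻¹ : (K ⊗[k] A)ˣ) : K ⊗[k] A) = (NK (u : K ⊗[k] A))⁻¹ := fun u => map_units_inv NK u
  refine ⟨fun a ha => ?_, fun c c' b b' hb hb' => ⟨?_, ?_⟩⟩
  · -- (i)
    have htriv := Groth.Agent.Lib.Helper6.H1Units.h1_trivial k K A a.cl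
    have hcoh : GpH1.Cohomologous (a : (K ≃ₐ[k] K) → (K ⊗[k] A)ˣ)
        (GpH1.OneCocycle.trivial : GpH1.OneCocycle (K ≃ₐ[k] K) (K ⊗[k] A)ˣ) :=
      (GpH1.OneCocycle.cl_eq_cl_iff a _).mp htriv
    obtain ⟨b, hb⟩ := hcoh
    have hb' : ∀ σ : K ≃ₐ[k] K, a σ = b⁻¹ * σ • b := by
      intro σ
      refine (hb σ).trans ?_
      show b⁻¹ * 1 * σ • b = b⁻¹ * σ • b
      rw [mul_one]
    have hne := hunit b
    have hfix : ∀ σ : K ≃ₐ[k] K, σ (NK (b : K ⊗[k] A)) = NK (b : K ⊗[k] A) := by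
      intro σ
      have h1 := ha σ
      rw [hb' σ, Units.val_mul, map_mul, hinv, units_smul_val', hequiv] at h1
      calc σ (NK (b : K ⊗[k] A))
          = NK (b : K ⊗[k] A) * ((NK (b : K ⊗[k] A))⁻¹ * σ (NK (b : K ⊗[k] A))) := by
            rw [← mul_assoc, mul_inv_cancel₀ hne, one_mul]
        _ = NK (b : K ⊗[k] A) := by rw [h1, mul_one]
    obtain ⟨c0, hc0⟩ := (IsGalois.mem_range_algebraMap_iff_fixed (NK (b : K ⊗[k] A))).mpr hfix
    have hc0ne : c0 ≠ 0 := by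
      rintro rfl
      rw [map_zero] at hc0
      exact hne hc0.symm
    exact ⟨Units.mk0 c0 hc0ne, b, hc0.symm, hb'⟩
  · -- (ii) ⇒
    rintro ⟨s, hs, hrel⟩
    obtain ⟨y, hy⟩ : ∃ y : (K ⊗[k] A)ˣ, y = b' * s⁻¹ * b⁻¹ := ⟨_, rfl⟩
    have hyfix : ∀ σ : K ≃ₐ[k] K, σ • y = y := by
      intro σ
      have h1 : σ • b' = b' * s⁻¹ * b⁻¹ * σ • b * σ • s := by
        have h0 := hrel σ
        calc σ • b' = b' * (b'⁻¹ * σ • b') := by group
          _ = b' * (s⁻¹ * (b⁻¹ * σ • b) * σ • s) := by rw [h0]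
          _ = b' * s⁻¹ * b⁻¹ * σ • b * σ • s := by group
      rw [hy, smul_mul', smul_mul', smul_inv', smul_inv', h1]
      group
    have hyfix' : ∀ σ : K ≃ₐ[k] K, σ • (y : K ⊗[k] A) = (y : K ⊗[k] A) := by
      intro σ
      rw [← units_smul_val', hyfix σ]
    obtain ⟨x0, hx0⟩ := Groth.Agent.Helper6.PGLDescent.fixed_tensor k K A (y : K ⊗[k] A) hyfix'
    have hx0u : IsUnit x0 :=
      Groth.Agent.Helper6.RedNorm.isUnit_of_tensor_isUnit (K := K) x0 (hx0 ▸ y.isUnit)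
    refine ⟨hx0u.unit, ?_⟩
    rw [IsUnit.unit_spec]
    have hcne : algebraMap k K (c : k) ≠ 0 := by rw [← hb]; exact hunit b
    apply (algebraMap k K).injective
    rw [map_mul, ← hone x0, ← hx0, hy, Units.val_mul, Units.val_mul, map_mul, map_mul, hinv, hinv,
      hb', hs, hb, inv_one, mul_one, inv_mul_cancel_right₀ hcne]
  · -- (ii) ⇐
    rintro ⟨x, hx⟩
    obtain ⟨u, hu⟩ : ∃ u : (K ⊗[k] A)ˣ, (u : K ⊗[k] A) = (1 : K) ⊗ₜ[k] (x : A) :=
      ⟨⟨1 ⊗ₜ (x : A), 1 ⊗ₜ ((x⁻¹ : Aˣ) : A),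
        by rw [Algebra.TensorProduct.tmul_mul_tmul, mul_one, Units.mul_inv]; rfl,
        by rw [Algebra.TensorProduct.tmul_mul_tmul, mul_one, Units.inv_mul]; rfl⟩, rfl⟩
    have hufix : ∀ σ : K ≃ₐ[k] K, σ • u = u := by
      intro σ
      apply Units.ext
      rw [units_smul_val', hu, Groth.Agent.Helper6.PGLDescent.smul_tmul_eq, map_one]
    have h1 : algebraMap k K (c : k) ≠ 0 := by rw [← hb]; exact hunit b
    have h2 : algebraMap k K (N (x : A)) ≠ 0 := by rw [← hone, ← hu]; exact hunit u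
    refine ⟨b⁻¹ * u⁻¹ * b', ?_, fun σ => ?_⟩
    · rw [Units.val_mul, Units.val_mul, map_mul, map_mul, hinv, hinv, hb, hb', hu, hone, hx, map_mul]
      field_simp
    · rw [smul_mul', smul_mul', smul_inv', smul_inv', hufix σ]
      group

theorem main (k : Type u) [Field k] (K : Type v) [Field K] [Algebra k K]
    [FiniteDimensional k K] [IsGalois k K]
    (A : Type w) [Ring A] [Algebra k A] [Algebra.IsCentral k A] [IsSimpleRing A]
    [FiniteDimensional k A]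
    (hA : ∃ n : ℕ, n ≠ 0 ∧ Nonempty (K ⊗[k] A ≃ₐ[K] Matrix (Fin n) (Fin n) K))
    (N : A →* k) (hN : CSAGal.IsRedNorm k A N)
    (NK : (K ⊗[k] A) →* K) (hNK : CSAGal.IsRedNorm K (K ⊗[k] A) NK) :
    (∀ a : GpH1.OneCocycle (K ≃ₐ[k] K) (K ⊗[k] A)ˣ, (∀ σ, NK (a σ : K ⊗[k] A) = 1) →
        ∃ (c : kˣ) (b : (K ⊗[k] A)ˣ), NK (b : K ⊗[k] A) = algebraMap k K (c : k) ∧
          ∀ σ : K ≃ₐ[k] K, a σ = b⁻¹ * σ • b) ∧
    (∀ (c c' : kˣ) (b b' : (K ⊗[k] A)ˣ),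
        NK (b : K ⊗[k] A) = algebraMap k K (c : k) → NK (b' : K ⊗[k] A) = algebraMap k K (c' : k) →
        ((∃ s : (K ⊗[k] A)ˣ, NK (s : K ⊗[k] A) = 1 ∧
            ∀ σ : K ≃ₐ[k] K, b'⁻¹ * σ • b' = s⁻¹ * (b⁻¹ * σ • b) * σ • s) ↔
          ∃ x : Aˣ, (c' : k) = N (x : A) * (c : k))) := by
  obtain ⟨n, hn, ⟨ψ⟩⟩ := hA
  have hdet : ∀ y, NK y = (ψ y).det := redNorm_eq_det hn ψ NK hNK
  refine formal k K A N NK ?_ ?_
  · intro σ y
    rw [hdet, hdet, det_equivariant hn ψ σ y]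
  · intro a
    rw [hdet, det_one_tmul hn ψ N hN a]

end Groth.Agent.Lib.Helper6.SL1H1
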